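import Cfsg.Agent.Lib.Small.AltSec.D4.Fusion
import Cfsg.Agent.Lib.Lie.TwistD4S

/-!
The two rank one subgroups of ³D₄ centralising a toral involution.
-/

set_option autoImplicit false
set_option maxRecDepth 4000
set_option linter.unusedSectionVars false

namespace Cfsg.Agent.Small.AltSec.D4

open Cfsg.Lie Matrix Cfsg.Agent.Lie Cfsg.Agent.Small.D4Torus
open Cfsg.Agent.Lie.D4 (Setup Os neZero_rank)
open Cfsg.Agent.Lie.D4.Setup (cB)
open scoped MatrixGroups

local notation "GD" => GL chevD4.Idx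

/-- The rank one subgroup of a node. -/
noncomputable def phiN (K : Type*) [Field K] (i : ℕ) (hi : i < chevD4.rank) :
    Matrix.SpecialLinearGroup (Fin 2) K →* GD K :=
  (factsD4.rankOneRel_simple (F := K) i hi).hom

theorem nodes : chevD4.simple 0 = 18 ∧ chevD4.simple 2 = 13 ∧ chevD4.simple 3 = 12 ∧
    chevD4.neg 18 = 5 ∧ chevD4.neg 13 = 10 ∧ chevD4.neg 12 = 11 ∧ chevD4.neg 23 = 0 := by decide +kernel

theorem okComm2_L : okComm2 chevD4 [23, 18, 13, 12] = true := by decide +kernel

theorem map_upS {F K : Type*} [Field F] [Field K] (f : F →+* K) (t : F) :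
    Matrix.SpecialLinearGroup.map f (upS t) = upS (f t) := by
  ext i j; rw [Matrix.SpecialLinearGroup.map_apply_coe]; fin_cases i <;> fin_cases j <;> simp [upS]

theorem map_loS {F K : Type*} [Field F] [Field K] (f : F →+* K) (t : F) :
    Matrix.SpecialLinearGroup.map f (loS t) = loS (f t) := by
  ext i j; rw [Matrix.SpecialLinearGroup.map_apply_coe]; fin_cases i <;> fin_cases j <;> simp [loS]

theorem map_antS {F K : Type*} [Field F] [Field K] (f : F →+* K) :
    Matrix.SpecialLinearGroup.map f (antS : Matrix.SpecialLinearGroup (Fin 2) F) = antS := by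
  ext i j; rw [Matrix.SpecialLinearGroup.map_apply_coe]; fin_cases i <;> fin_cases j <;> simp [antS]

theorem mem_of_gens {F : Type*} [Field F] [Fintype F] {Γ : Type*} [Group Γ] (f : Matrix.SpecialLinearGroup (Fin 2) F →* Γ)
    {X : Subgroup Γ} (hu : ∀ t, f (upS t) ∈ X) (hl : ∀ t, f (loS t) ∈ X) : ∀ g, f g ∈ X := by
  intro g
  have h : (⊤ : Subgroup (Matrix.SpecialLinearGroup (Fin 2) F)) ≤ X.comap f := by
    rw [← RankOneRel.closure_up_ant, Subgroup.closure_le]
    rintro x (⟨t, rfl⟩ | hx)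
    · exact hu t
    · rw [Set.mem_singleton_iff] at hx
      subst hx
      show f antS ∈ X
      rw [antS_eq, map_mul, map_mul]
      exact mul_mem (mul_mem (hu 1) (hl _)) (hu 1)
  exact h (Subgroup.mem_top g)

theorem commute_gens {F F' : Type*} [Field F] [Fintype F] [Field F'] [Fintype F'] {Γ : Type*} [Group Γ]
    (f : Matrix.SpecialLinearGroup (Fin 2) F →* Γ) (f' : Matrix.SpecialLinearGroup (Fin 2) F' →* Γ)
    (huu : ∀ s t, Commute (f (upS s)) (f' (upS t))) (hul : ∀ s t, Commute (f (upS s)) (f' (loS t)))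
    (hlu : ∀ s t, Commute (f (loS s)) (f' (upS t))) (hll : ∀ s t, Commute (f (loS s)) (f' (loS t))) :
    ∀ g g', Commute (f g) (f' g') := by
  intro g g'
  have h : ∀ x, (∀ t, Commute x (f' (upS t))) → (∀ t, Commute x (f' (loS t))) → Commute x (f' g') := by
    intro x h1 h2
    have := mem_of_gens f' (X := Subgroup.centralizer {x})
      (fun t => Subgroup.mem_centralizer_singleton_iff.2 (h1 t).symm.eq)
      (fun t => Subgroup.mem_centralizer_singleton_iff.2 (h2 t).symm.eq) g'
    exact (Subgroup.mem_centralizer_singleton_iff.1 this).symm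
  have := mem_of_gens f (X := Subgroup.centralizer {f' g'})
    (fun t => Subgroup.mem_centralizer_singleton_iff.2 (h _ (huu t) (hul t)).eq)
    (fun t => Subgroup.mem_centralizer_singleton_iff.2 (h _ (hlu t) (hll t)).eq) g
  exact Subgroup.mem_centralizer_singleton_iff.1 this

variable {K : Type*} [Field K] [Fintype K] {q : ℕ} (S : Setup K q)

theorem phiN_up (i : ℕ) (hi : i < chevD4.rank) (t : K) : phiN K i hi (upS t) = factsD4.xg (chevD4.simple i) t := by
  rw [phiN, RankOneRel.hom_up]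

theorem phiN_lo (i : ℕ) (hi : i < chevD4.rank) (t : K) :
    phiN K i hi (loS t) = factsD4.xg (chevD4.neg (chevD4.simple i)) t := by
  rw [phiN, RankOneRel.hom_lo]

theorem phiN_commute {i j : ℕ} (hi : i < chevD4.rank) (hj : j < chevD4.rank)
    (hm : chevD4.simple i ∈ [23, 18, 13, 12]) (hm' : chevD4.simple j ∈ [23, 18, 13, 12])
    (hne : chevD4.simple i ≠ chevD4.simple j) (g g' : Matrix.SpecialLinearGroup (Fin 2) K) :
    Commute (phiN K i hi g) (phiN K j hj g') :=
  commute_gens _ _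
    (fun s t => by rw [phiN_up, phiN_up]; exact factsD4.xg_commute2 okComm2_L hm hm' hne (Or.inl rfl) (Or.inl rfl) _ _)
    (fun s t => by rw [phiN_up, phiN_lo]; exact factsD4.xg_commute2 okComm2_L hm hm' hne (Or.inl rfl) (Or.inr rfl) _ _)
    (fun s t => by rw [phiN_lo, phiN_up]; exact factsD4.xg_commute2 okComm2_L hm hm' hne (Or.inr rfl) (Or.inl rfl) _ _)
    (fun s t => by rw [phiN_lo, phiN_lo]; exact factsD4.xg_commute2 okComm2_L hm hm' hne (Or.inr rfl) (Or.inr rfl) _ _)
    g g'

/-- The SL₂(q³) of the outer nodes. -/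
noncomputable def phiB : Matrix.SpecialLinearGroup (Fin 2) K →* GD K :=
  MonoidHom.mk' (fun g => phiN K 0 (by decide +kernel) g *
      (phiN K 2 (by decide +kernel) (Matrix.SpecialLinearGroup.map S.T.fr g) *
        phiN K 3 (by decide +kernel) (Matrix.SpecialLinearGroup.map S.T.fr (Matrix.SpecialLinearGroup.map S.T.fr g))))
    fun g h => by
      obtain ⟨a, b, c, -⟩ := nodes
      have h1 : ∀ x y, Commute (phiN K 2 (by decide +kernel) x) (phiN K 0 (by decide +kernel) y) :=
        phiN_commute _ _ (by simp [b]) (by simp [a]) (by simp [a, b])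
      have h2 : ∀ x y, Commute (phiN K 3 (by decide +kernel) x) (phiN K 0 (by decide +kernel) y) :=
        phiN_commute _ _ (by simp [c]) (by simp [a]) (by simp [a, c])
      have h3 : ∀ x y, Commute (phiN K 3 (by decide +kernel) x) (phiN K 2 (by decide +kernel) y) :=
        phiN_commute _ _ (by simp [c]) (by simp [b]) (by simp [b, c])
      simp only [map_mul, mul_assoc]
      congr 1
      rw [← mul_assoc (phiN K 3 _ (Matrix.SpecialLinearGroup.map S.T.fr (Matrix.SpecialLinearGroup.map S.T.fr g))),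
        ← ((h2 _ _).symm).eq, mul_assoc, ← mul_assoc (phiN K 2 _ (Matrix.SpecialLinearGroup.map S.T.fr g))
          (phiN K 0 _ h), (h1 _ _).eq, mul_assoc]
      congr 2
      rw [← mul_assoc (phiN K 3 _ _) (phiN K 2 _ _), (h3 _ _).eq, mul_assoc]

theorem phiB_apply (g : Matrix.SpecialLinearGroup (Fin 2) K) : phiB S g = phiN K 0 (by decide +kernel) g *
      (phiN K 2 (by decide +kernel) (Matrix.SpecialLinearGroup.map S.T.fr g) *
        phiN K 3 (by decide +kernel)
          (Matrix.SpecialLinearGroup.map S.T.fr (Matrix.SpecialLinearGroup.map S.T.fr g))) := rfl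

theorem phiB_up (t : K) : phiB S (upS t) = (factsD4.sys K).prodOver [18, 13, 12] (cB q t) := by
  obtain ⟨a, b, c, -⟩ := nodes
  rw [phiB_apply, map_upS, map_upS, phiN_up, phiN_up, phiN_up, a, b, c, S.hfr, S.hfr]
  simp [CommSys.prodOver, Facts.sys_x, cB]

theorem phiB_lo (t : K) : phiB S (loS t) = (factsD4.sys K).prodOver [5, 10, 11] (cB q t) := by
  obtain ⟨a, b, c, d, e, f, -⟩ := nodes
  rw [phiB_apply, map_loS, map_loS, phiN_lo, phiN_lo, phiN_lo, a, b, c, d, e, f, S.hfr, S.hfr]
  simp [CommSys.prodOver, Facts.sys_x, cB]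

theorem phiB_ant : phiB S antS = (factsD4.tsys K).nw [(0 : Fin chevD4.rank), 2, 3] := by
  have h : ∀ i : Fin chevD4.rank, phiN K i.val i.isLt antS = (factsD4.tsys K).nS i := fun i => by
    rw [antS_eq, map_mul, map_mul, phiN_up, phiN_lo, factsD4.tsys_nS, factsD4.ng_eq, inv_one]
  rw [phiB_apply, map_antS, map_antS, TorusSys.nw_cons, TorusSys.nw_cons, TorusSys.nw_singleton, ← h, ← h, ← h]
  rfl

/-- The node word carrying p₂ to the highest root. -/
def word0 : List (Fin chevD4.rank) := orbWord chevD4 Os [0, 1]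

theorem word0_act : actR chevD4 (word0.map Fin.val) 14 = 23 ∧ actR chevD4 (word0.map Fin.val) 9 = 0 := by
  decide +kernel

/-- The SL₂(q) of the highest root. -/
noncomputable def phiA {F : Type*} [Field F] (f : F →+* K) : Matrix.SpecialLinearGroup (Fin 2) F →* GD K :=
  (MulAut.conj ((factsD4.tsys K).nw word0)).toMonoidHom.comp ((phi K).comp (Matrix.SpecialLinearGroup.map f))

theorem conj_root (r : Fin chevD4.nroots) {r' : ℕ} (h : actR chevD4 (word0.map Fin.val) r.val = r') :
    ∃ e : K, e * e = 1 ∧ ∀ t, (factsD4.tsys K).nw word0 * factsD4.xg r.val t * ((factsD4.tsys K).nw word0)⁻¹ =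
      factsD4.xg r' (e * t) := by
  obtain ⟨e, he, h2⟩ := (factsD4.tsys K).nw_conj word0 r
  refine ⟨e, he, fun t => ?_⟩
  have := h2 t
  rwa [factsD4.pr_smul_val, h] at this

theorem phiA_up {F : Type*} [Field F] (f : F →+* K) :
    ∃ e : K, (e = 1 ∨ e = -1) ∧ ∀ t, phiA f (upS t) = factsD4.xg 23 (e * f t) := by
  obtain ⟨e, he, h⟩ := conj_root (K := K) ⟨14, by decide +kernel⟩ word0_act.1
  refine ⟨e, mul_self_eq_one_iff.1 he, fun t => ?_⟩
  show (factsD4.tsys K).nw word0 * phi K (Matrix.SpecialLinearGroup.map f (upS t)) * _ = _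
  rw [map_upS, phi_up]
  exact h _

theorem phiA_lo {F : Type*} [Field F] (f : F →+* K) :
    ∃ e : K, (e = 1 ∨ e = -1) ∧ ∀ t, phiA f (loS t) = factsD4.xg 0 (e * f t) := by
  obtain ⟨e, he, h⟩ := conj_root (K := K) ⟨9, by decide +kernel⟩ word0_act.2
  refine ⟨e, mul_self_eq_one_iff.1 he, fun t => ?_⟩
  show (factsD4.tsys K).nw word0 * phi K (Matrix.SpecialLinearGroup.map f (loS t)) * _ = _
  rw [map_loS, phi_lo]
  exact h _

theorem phiA_phiB {F : Type*} [Field F] [Fintype F] (f : F →+* K) (g : Matrix.SpecialLinearGroup (Fin 2) F)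
    (g' : Matrix.SpecialLinearGroup (Fin 2) K) : Commute (phiA f g) (phiB S g') := by
  obtain ⟨d, -, hd⟩ := phiA_up f
  obtain ⟨e, -, he⟩ := phiA_lo f
  have h23 : ∀ a, a = 23 ∨ a = 0 → ∀ b, b ∈ ([18, 13, 12, 5, 10, 11] : List ℕ) → ∀ t u : K,
      Commute (factsD4.xg a t) (factsD4.xg b u) := by
    intro a ha b hb t u
    obtain ⟨-, -, -, n1, n2, n3, n4⟩ := nodes
    simp only [List.mem_cons, List.not_mem_nil, or_false] at hb
    have ha' : a = 23 ∨ a = chevD4.neg 23 := by rw [n4]; exact ha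
    rcases hb with rfl | rfl | rfl | rfl | rfl | rfl
    · exact factsD4.xg_commute2 okComm2_L (r := 23) (s := 18) (by simp) (by simp) (by decide) ha' (Or.inl rfl) _ _
    · exact factsD4.xg_commute2 okComm2_L (r := 23) (s := 13) (by simp) (by simp) (by decide) ha' (Or.inl rfl) _ _
    · exact factsD4.xg_commute2 okComm2_L (r := 23) (s := 12) (by simp) (by simp) (by decide) ha' (Or.inl rfl) _ _
    · exact factsD4.xg_commute2 okComm2_L (r := 23) (s := 18) (by simp) (by simp) (by decide) ha' (Or.inr n1.symm) _ _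
    · exact factsD4.xg_commute2 okComm2_L (r := 23) (s := 13) (by simp) (by simp) (by decide) ha' (Or.inr n2.symm) _ _
    · exact factsD4.xg_commute2 okComm2_L (r := 23) (s := 12) (by simp) (by simp) (by decide) ha' (Or.inr n3.symm) _ _
  refine commute_gens (phiA f) (phiB S) (fun s t => ?_) (fun s t => ?_) (fun s t => ?_) (fun s t => ?_) g g' <;>
    simp only [hd, he, phiB_up, phiB_lo, CommSys.prodOver, Facts.sys_x, List.map_cons, List.map_nil,
      List.prod_cons, List.prod_nil, mul_one]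
  all_goals
    refine Commute.mul_right (h23 _ ?_ _ ?_ _ _) (Commute.mul_right (h23 _ ?_ _ ?_ _ _) (h23 _ ?_ _ ?_ _ _)) <;>
      simp

/-- The product of the two subgroups. -/
noncomputable def phiAB {F : Type*} [Field F] [Fintype F] (f : F →+* K) :
    Matrix.SpecialLinearGroup (Fin 2) F × Matrix.SpecialLinearGroup (Fin 2) K →* GD K :=
  (phiA f).noncommCoprod (phiB S) (phiA_phiB S f)

theorem phiA_mem {F : Type*} [Field F] [Fintype F] (f : F →+* K) (g : Matrix.SpecialLinearGroup (Fin 2) F) :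
    phiA f g ∈ (phiAB S f).range :=
  ⟨(g, 1), by rw [phiAB, MonoidHom.noncommCoprod_apply, map_one, mul_one]⟩

theorem phiB_mem {F : Type*} [Field F] [Fintype F] (f : F →+* K) (g : Matrix.SpecialLinearGroup (Fin 2) K) :
    phiB S g ∈ (phiAB S f).range :=
  ⟨(1, g), by rw [phiAB, MonoidHom.noncommCoprod_apply, map_one, one_mul]⟩

theorem long_mem {F : Type*} [Field F] [Fintype F] {f : F →+* K} (hsur : ∀ t : K, t ^ q = t → ∃ x, f x = t) {r : ℕ}
    (hr : r = 23 ∨ r = 0) {s : K} (hs : s ^ q = s) : factsD4.xg r s ∈ (phiAB S f).range := by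
  have hneg : (-s) ^ q = -s := by rw [← S.hfr, map_neg, S.hfr, hs]
  rcases hr with rfl | rfl
  · obtain ⟨d, hd1, hd⟩ := phiA_up f
    obtain ⟨x, hx⟩ := hsur (d * s) (by rcases hd1 with rfl | rfl <;> simp [hs, hneg])
    have e : factsD4.xg 23 s = phiA f (upS x) := by
      rw [hd, hx, ← mul_assoc, show d * d = 1 by rcases hd1 with rfl | rfl <;> simp, one_mul]
    rw [e]; exact phiA_mem S f _
  · obtain ⟨d, hd1, hd⟩ := phiA_lo f
    obtain ⟨x, hx⟩ := hsur (d * s) (by rcases hd1 with rfl | rfl <;> simp [hs, hneg])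
    have e : factsD4.xg 0 s = phiA f (loS x) := by
      rw [hd, hx, ← mul_assoc, show d * d = 1 by rcases hd1 with rfl | rfl <;> simp, one_mul]
    rw [e]; exact phiA_mem S f _

theorem range_le {F : Type*} [Field F] [Fintype F] {f : F →+* K} (hf : ∀ t, f t ^ q = f t) :
    (phiAB S f).range ≤ twistedD4 K q := by
  rintro _ ⟨⟨g, g'⟩, rfl⟩
  rw [phiAB, MonoidHom.noncommCoprod_apply]
  refine mul_mem ?_ (mem_of_gens _ (fun t => ?_) (fun t => ?_) g')
  · refine mul_mem (mul_mem (nwOrb_mem S _) ?_) (inv_mem (nwOrb_mem S _))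
    refine mem_of_gens ((phi K).comp (Matrix.SpecialLinearGroup.map f)) (fun t => ?_) (fun t => ?_) g
    · rw [MonoidHom.comp_apply, map_upS, phi_up]; exact S.A_mem (Or.inl rfl) (hf t)
    · rw [MonoidHom.comp_apply, map_loS, phi_lo]; exact S.A_mem (Or.inr rfl) (hf t)
  · rw [phiB_up]; exact S.B_mem (Or.inl rfl) t
  · rw [phiB_lo]; exact S.B_mem (Or.inr rfl) t

theorem char_tt (t m : Kˣ) (r : ℕ) : torChar chevD4 (S.crd t m) r =
    t ^ chevD4.cartan 0 r * m ^ chevD4.cartan 1 r * (t ^ q) ^ chevD4.cartan 2 r *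
      ((t ^ q) ^ q) ^ chevD4.cartan 3 r :=
  torChar_fin _ r

theorem cart_roots : (List.range 4).map (fun j => chevD4.cartan j 23) = [0, 1, 0, 0] ∧
    (List.range 4).map (fun j => chevD4.cartan j 0) = [0, -1, 0, 0] ∧
    (List.range 4).map (fun j => chevD4.cartan j 18) = [2, -1, 0, 0] ∧
    (List.range 4).map (fun j => chevD4.cartan j 13) = [0, -1, 2, 0] ∧
    (List.range 4).map (fun j => chevD4.cartan j 12) = [0, -1, 0, 2] ∧
    (List.range 4).map (fun j => chevD4.cartan j 5) = [-2, 1, 0, 0] ∧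
    (List.range 4).map (fun j => chevD4.cartan j 10) = [0, 1, -2, 0] ∧
    (List.range 4).map (fun j => chevD4.cartan j 11) = [0, 1, 0, -2] := by decide +kernel

theorem torus_normalises {F : Type*} [Field F] [Fintype F] {f : F →+* K} (hf : ∀ t, f t ^ q = f t)
    (hsur : ∀ t : K, t ^ q = t → ∃ x, f x = t) {t m : Kˣ} (hm : m ^ q = m) :
    ∀ y ∈ (phiAB S f).range, tt S t m * y * (tt S t m)⁻¹ ∈ (phiAB S f).range := by
  obtain ⟨c23, c0, c18, c13, c12, c5, c10, c11⟩ := cart_roots
  simp only [List.map_cons, List.map_nil, List.range, List.range.loop, List.cons.injEq, and_true] at c23 c0 c18 c13 c12 c5 c10 c11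
  have hmK : (m : K) ^ q = m := by rw [← Units.val_pow_eq_pow_val, hm]
  have hmul : ∀ x y : K, x ^ q = x → y ^ q = y → (x * y) ^ q = x * y := fun x y hx hy => by rw [mul_pow, hx, hy]
  rintro _ ⟨⟨g, g'⟩, rfl⟩
  rw [phiAB, MonoidHom.noncommCoprod_apply]
  let X := ((phiAB S f).range).comap (MulAut.conj (tt S t m)).toMonoidHom
  show phiA f g * phiB S g' ∈ X
  refine mul_mem (mem_of_gens _ (fun s => ?_) (fun s => ?_) g) (mem_of_gens _ (fun s => ?_) (fun s => ?_) g')
  · obtain ⟨d, hd1, hd⟩ := phiA_up f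
    show tt S t m * phiA f (upS s) * (tt S t m)⁻¹ ∈ (phiAB S f).range
    rw [hd, tt, factsD4.torus_conj _ (by decide +kernel)]
    refine long_mem S hsur (Or.inl rfl) ?_
    refine hmul _ _ ?_ ?_
    · rw [char_tt, c23.1, c23.2.1, c23.2.2.1, c23.2.2.2]; simpa using hmK
    · rcases hd1 with rfl | rfl <;> simp [hf, ← S.hfr, map_neg]
      simp [S.hfr, hf]
  · obtain ⟨d, hd1, hd⟩ := phiA_lo f
    show tt S t m * phiA f (loS s) * (tt S t m)⁻¹ ∈ (phiAB S f).range
    rw [hd, tt, factsD4.torus_conj _ (by decide +kernel)]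
    refine long_mem S hsur (Or.inr rfl) ?_
    refine hmul _ _ ?_ ?_
    · rw [char_tt, c0.1, c0.2.1, c0.2.2.1, c0.2.2.2]; simp [inv_pow, hmK]
    · rcases hd1 with rfl | rfl <;> simp [hf, ← S.hfr, map_neg]
      simp [S.hfr, hf]
  · show tt S t m * phiB S (upS s) * (tt S t m)⁻¹ ∈ (phiAB S f).range
    rw [phiB_up, tt, factsD4.torus_conj_prodOver _ (fun r hr => by
      simp only [List.mem_cons, List.not_mem_nil, or_false] at hr
      rcases hr with rfl | rfl | rfl <;> decide +kernel)]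
    have e : (factsD4.sys K).prodOver [18, 13, 12] (fun r => (torChar chevD4 (S.crd t m) r : K) * cB q s r) =
        (factsD4.sys K).prodOver [18, 13, 12] (cB q ((t : K) ^ 2 * (m : K)⁻¹ * s)) := by
      refine CommSys.prodOver_congr _ fun r hr => ?_
      simp only [List.mem_cons, List.not_mem_nil, or_false] at hr
      rcases hr with rfl | rfl | rfl <;> rw [char_tt]
      · rw [c18.1, c18.2.1, c18.2.2.1, c18.2.2.2]; simp [cB]
      · rw [c13.1, c13.2.1, c13.2.2.1, c13.2.2.2]
        simp [cB, mul_pow, inv_pow, hmK, ← pow_mul, mul_comm]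
      · rw [c12.1, c12.2.1, c12.2.2.1, c12.2.2.2]
        simp [cB, mul_pow, inv_pow, hmK, ← pow_mul, mul_comm, mul_left_comm, mul_assoc]
    rw [e, ← phiB_up]
    exact phiB_mem S f _
  · show tt S t m * phiB S (loS s) * (tt S t m)⁻¹ ∈ (phiAB S f).range
    rw [phiB_lo, tt, factsD4.torus_conj_prodOver _ (fun r hr => by
      simp only [List.mem_cons, List.not_mem_nil, or_false] at hr
      rcases hr with rfl | rfl | rfl <;> decide +kernel)]
    have e : (factsD4.sys K).prodOver [5, 10, 11] (fun r => (torChar chevD4 (S.crd t m) r : K) * cB q s r) =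
        (factsD4.sys K).prodOver [5, 10, 11] (cB q (((t : K) ^ 2)⁻¹ * (m : K) * s)) := by
      refine CommSys.prodOver_congr _ fun r hr => ?_
      simp only [List.mem_cons, List.not_mem_nil, or_false] at hr
      rcases hr with rfl | rfl | rfl <;> rw [char_tt]
      · rw [c5.1, c5.2.1, c5.2.2.1, c5.2.2.2]; simp [cB]
      · rw [c10.1, c10.2.1, c10.2.2.1, c10.2.2.2]
        simp [cB, mul_pow, inv_pow, hmK, ← pow_mul, mul_comm]
      · rw [c11.1, c11.2.1, c11.2.2.1, c11.2.2.2]
        simp [cB, mul_pow, inv_pow, hmK, ← pow_mul, mul_comm, mul_left_comm, mul_assoc]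
    rw [e, ← phiB_lo]
    exact phiB_mem S f _

end Cfsg.Agent.Small.AltSec.D4
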