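import Cfsg.Agent.Lib.Small.AltSec.D4.Fusion
import Cfsg.Agent.Lib.Lie.FieldFix

/-!
Alternating sections of ³D₄ away from characteristic five.
-/

set_option autoImplicit false
set_option maxRecDepth 4000
set_option linter.unusedSectionVars false

namespace Cfsg.Agent.Small.AltSec.D4

open Cfsg.Lie Cfsg.Agent.Lie Cfsg.Agent.Small.D4Torus
open Cfsg.Agent.Lie.D4 (Setup neZero_rank)
open scoped MatrixGroups

local notation "GD" => GL chevD4.Idx

variable {K : Type*} [Field K] [Fintype K]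

theorem gmap_twisted {L : Type*} [Field L] [Fintype L] (f : K →+* L) {q : ℕ} (hK : Fintype.card K = q ^ 3)
    {g : GD K} (hg : g ∈ twistedD4 K q) : gmap f g ∈ twistedD4 L (q ^ 4) := by
  refine (show twistedD4 K q ≤ (twistedD4 L (q ^ 4)).comap (gmap f) from (Subgroup.closure_le _).2 ?_) hg
  rintro g ⟨w, hw, hgw⟩
  obtain rfl : g = factsD4.wg w := Units.ext (by rw [hgw, factsD4.coe_wg])
  show gmap f (factsD4.wg w) ∈ twistedD4 L (q ^ 4)
  have hc : ∀ t : K, t ^ q ^ 3 = t := fun t => by rw [← hK, FiniteField.pow_card]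
  have h4 : ∀ t : K, t ^ q ^ 4 = t ^ q := fun t => by rw [pow_succ q 3, pow_mul, hc]
  have h8 : ∀ t : K, t ^ (q ^ 4) ^ 2 = t ^ q ^ 2 := fun t => by
    rw [show (q ^ 4) ^ 2 = q ^ 3 * (q ^ 3 * q ^ 2) by ring, pow_mul, hc, pow_mul, hc]
  have hw' : ∀ w : List (ℕ × K), gmap f (factsD4.wg w) = factsD4.wg (w.map fun p => (p.1, f p.2)) := by
    intro w
    induction w with
    | nil => simp [Facts.wg]
    | cons a w ih => simp_all [Facts.wg, factsD4.gmap_xg]
  rw [hw']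
  refine Subgroup.subset_closure ⟨_, ?_, factsD4.coe_wg _⟩
  rcases hw with ⟨t, ht, r, hr, rfl⟩ | ⟨t, rs, hrs, rfl⟩
  · exact Or.inl ⟨f t, by rw [← map_pow, h4, ht], r, hr, rfl⟩
  · exact Or.inr ⟨f t, rs, hrs, by simp [← map_pow, h4, h8]⟩

theorem five_centralises (p : ℕ) [Fact p.Prime] [CharP K p] (hp : p ≠ 5) {q : ℕ} (hq : IsPrimePow q)
    (hK : Fintype.card K = q ^ 3)
    {P : Subgroup ↥(twistedD4 K q)} (hP : IsPGroup 5 P) {t : ↥(twistedD4 K q)} {k : ℕ} (ht : t ^ 2 ^ k = 1)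
    (hn : ∀ y ∈ P, t * y * t⁻¹ ∈ P) : ∀ y ∈ P, t * t * y = y * (t * t) := by
  classical
  haveI : Fact (Nat.Prime 5) := ⟨by norm_num⟩
  have hq5 : ¬ 5 ∣ q := by
    obtain ⟨f, -, hf⟩ := FiniteField.card K p
    intro h
    exact hp ((Nat.prime_dvd_prime_iff_eq (by norm_num) Fact.out).1
      ((Nat.Prime.dvd_of_dvd_pow (by norm_num)) (show 5 ∣ p ^ (f : ℕ) from hf ▸ hK ▸ dvd_pow h (by norm_num)))).symm
  let L := FiniteField.Extension K p 4
  letI := Fintype.ofFinite L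
  set Q := q ^ 4 with hQ
  have hL : Fintype.card L = Q ^ 3 := by
    rw [← Nat.card_eq_fintype_card, FiniteField.natCard_extension, Nat.card_eq_fintype_card, hK, hQ,
      ← pow_mul, ← pow_mul]
  have hQp : IsPrimePow Q := hq.pow (by norm_num)
  obtain ⟨S⟩ := Cfsg.Agent.Lie.D4.nonempty_setup (K := L) hQp hL
  let j : ↥(twistedD4 K q) →* ↥(twistedD4 L Q) :=
    ((gmap (algebraMap K L)).comp (twistedD4 K q).subtype).codRestrict _ fun g => gmap_twisted _ hK g.2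
  have hj : Function.Injective j := fun a b h =>
    Subtype.ext (gmap_injective (algebraMap K L) (congrArg Subtype.val h))
  have hQ1 : Q % 5 = 1 := by
    have : q % 5 = 1 ∨ q % 5 = 2 ∨ q % 5 = 3 ∨ q % 5 = 4 := by omega
    rcases this with h | h | h | h <;> simp [hQ, Nat.pow_mod, h]
  let T : Subgroup ↥(twistedD4 L Q) := (chevD4.diagonalSubgroup L ⊓ twistedD4 L Q).subgroupOf (twistedD4 L Q)
  have hnd : ¬ 5 ∣ T.index := by
    have h := T.card_mul_index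
    rw [Nat.card_congr (Subgroup.subgroupOfEquivOfLe inf_le_right).toEquiv, S.card_H, S.card_group] at h
    have hQ2 : 2 ≤ Q := hQp.two_le
    have hfac : Q ^ 12 * (Q ^ 2 - 1) * (Q ^ 6 - 1) * (Q ^ 8 + Q ^ 4 + 1) = (Q - 1) ^ 2 * (Q ^ 2 + Q + 1) *
        (Q ^ 12 * (Q + 1) * ((Q + 1) * (Q ^ 2 - Q + 1)) * (Q ^ 8 + Q ^ 4 + 1)) := by
      obtain ⟨c, hc⟩ : ∃ c, Q = c + 1 := ⟨Q - 1, by omega⟩
      rw [hc, show (c + 1) ^ 2 - 1 = c * (c + 2) by
          rw [show (c + 1) ^ 2 = c * (c + 2) + 1 by ring, Nat.add_sub_cancel],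
        show (c + 1) ^ 6 - 1 = c * (c + 2) * ((c + 1) ^ 2 + (c + 1) + 1) * (c * (c + 1) + 1) by
          rw [show (c + 1) ^ 6 = c * (c + 2) * ((c + 1) ^ 2 + (c + 1) + 1) * (c * (c + 1) + 1) + 1 by ring,
            Nat.add_sub_cancel],
        Nat.add_sub_cancel, show (c + 1) ^ 2 - (c + 1) + 1 = c * (c + 1) + 1 by
          rw [show (c + 1) ^ 2 = c * (c + 1) + (c + 1) by ring, Nat.add_sub_cancel]]
      ring
    rw [hfac] at h
    rw [mul_left_cancel₀ (mul_ne_zero (pow_ne_zero _ (by omega)) (by omega)) h, Nat.dvd_iff_mod_eq_zero]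
    have h2 : (Q ^ 2 - Q + 1) % 5 = 1 := by
      obtain ⟨c, hc⟩ : ∃ c, Q = 5 * c + 1 := ⟨Q / 5, by omega⟩
      rw [hc, show (5 * c + 1) ^ 2 = 5 * c * (5 * c + 1) + (5 * c + 1) by ring, Nat.add_sub_cancel, mul_assoc]
      omega
    simp [Nat.mul_mod, Nat.add_mod, Nat.pow_mod, hQ1, h2]
  obtain ⟨T5⟩ : Nonempty (Sylow 5 ↥T) := inferInstance
  have hR : IsPGroup 5 ↥((T5 : Subgroup ↥T).map T.subtype) := T5.2.map _
  have hidx : ¬ 5 ∣ ((T5 : Subgroup ↥T).map T.subtype).index := by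
    rw [Subgroup.index_map_subtype]
    intro h
    rcases (Nat.Prime.dvd_mul (by norm_num)).1 h with h | h
    · exact T5.not_dvd_index h
    · exact hnd h
  obtain ⟨S5, hS⟩ := (hP.map j).exists_le_sylow
  obtain ⟨c, hc⟩ := MulAction.exists_smul_eq ↥(twistedD4 L Q) S5 (hR.toSylow hidx)
  have hcP : ∀ y ∈ P, ((c * j y * c⁻¹ : ↥(twistedD4 L Q)) : GD L) ∈ (factsD4.tsys L).H := by
    intro y hy
    have h1 : c * j y * c⁻¹ ∈ ((c • S5 : Sylow 5 ↥(twistedD4 L Q)) : Subgroup ↥(twistedD4 L Q)) := by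
      rw [Sylow.coe_subgroup_smul]
      exact Subgroup.mem_map.2 ⟨j y, hS (Subgroup.mem_map_of_mem j hy), rfl⟩
    rw [hc] at h1
    obtain ⟨z, -, hz⟩ := Subgroup.mem_map.1 h1
    rw [← hz, factsD4.tsys_H]
    exact z.2.1
  have hcomm : ∀ a ∈ P, ∀ b ∈ P, a * b = b * a := by
    intro a ha b hb
    have h : (c * j a * c⁻¹) * (c * j b * c⁻¹) = (c * j b * c⁻¹) * (c * j a * c⁻¹) :=
      Subtype.ext (H_commute (hcP a ha) (hcP b hb))
    rw [show c * j a * c⁻¹ * (c * j b * c⁻¹) = c * (j a * j b) * c⁻¹ by group,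
      show c * j b * c⁻¹ * (c * j a * c⁻¹) = c * (j b * j a) * c⁻¹ by group, ← map_mul, ← map_mul] at h
    exact hj (mul_left_cancel (mul_right_cancel h))
  letI : CommGroup ↥P := { (inferInstance : Group ↥P) with mul_comm := fun a b => Subtype.ext (hcomm _ a.2 _ b.2) }
  let f : ↥P →* ↥P := MonoidHom.mk' (fun y => ⟨t * y * t⁻¹, hn _ y.2⟩) fun a b => Subtype.ext (by
    show t * (a.1 * b.1) * t⁻¹ = t * a.1 * t⁻¹ * (t * b.1 * t⁻¹); group)
  have hit : ∀ (n : ℕ) (y : ↥P), (((fun z => f z)^[n] y : ↥P) : ↥(twistedD4 K q)) = t ^ n * y * (t ^ n)⁻¹ := by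
    intro n
    induction n with
    | zero => simp
    | succ n ih =>
      intro y
      rw [Function.iterate_succ_apply', pow_succ']
      show t * _ * t⁻¹ = _
      rw [ih]; group
  intro y hy
  have h := fix_of_two hP k f (fun x => Subtype.ext (by rw [hit, ht]; simp)) (fun n z h5z h => ?_) ⟨y, hy⟩
  · have e : t * (t * y * t⁻¹) * t⁻¹ = y := congrArg Subtype.val h
    calc t * t * y = t * (t * y * t⁻¹) * t⁻¹ * (t * t) := by group
      _ = y * (t * t) := by rw [e]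
  · obtain ⟨i, hi, he⟩ : ∃ i, (i = 2 ∨ i = 3) ∧ (fun z => f z)^[n] z = z ^ i :=
      h.elim (fun h => ⟨2, Or.inl rfl, h⟩) fun h => ⟨3, Or.inr rfl, h⟩
    have he' := congrArg Subtype.val he
    rw [hit, SubgroupClass.coe_pow] at he'
    have h5' : (z : ↥(twistedD4 K q)) ^ 5 = 1 := by rw [← SubgroupClass.coe_pow, h5z]; rfl
    have hconj : (c * j (t ^ n) * c⁻¹) * (c * j z * c⁻¹) * (c * j (t ^ n) * c⁻¹)⁻¹ = (c * j z * c⁻¹) ^ i := by
      rw [conj_pow, ← map_pow j, ← he', map_mul, map_mul, map_inv]; group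
    have h5c : (c * j z * c⁻¹) ^ 5 = 1 := by rw [conj_pow, ← map_pow, h5', map_one]; simp
    have h2 : c * j z * c⁻¹ = 1 := Subtype.ext (no_eigen S (c * j (t ^ n) * c⁻¹).2 (hcP z z.2)
      (congrArg Subtype.val h5c) hi (congrArg Subtype.val hconj))
    exact Subtype.ext (hj ((conj_eq_one_iff.1 h2).trans (map_one j).symm))

theorem alt_le_six (p : ℕ) [Fact p.Prime] [CharP K p] (hp : p ≠ 5) {q : ℕ} (hq : IsPrimePow q)
    (hK : Fintype.card K = q ^ 3) (r : ℕ) (H : Subgroup ↥(twistedD4 K q)) (N : Subgroup ↥H) [N.Normal]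
    (e : ↥H ⧸ N ≃* ↥(alternatingGroup (Fin r))) : r ≤ 6 := by
  by_contra hc
  obtain ⟨σ, τ, h1, h2, h3⟩ := alt_frob (r := r) (by omega)
  exact no_frob H (e.toMonoidHom.comp (QuotientGroup.mk' N))
    (e.surjective.comp (QuotientGroup.mk'_surjective N)) h1 h2 h3
    fun P hP t k ht hn => five_centralises p hp hq hK hP ht hn

end Cfsg.Agent.Small.AltSec.D4
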