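import Cfsg.Agent.Lib.Small.AltSec.D4.Fusion
import Cfsg.Agent.Lib.Small.FoldG2
import Cfsg.Agent.Lib.Lie.FieldFix

/-!
The subgroup of type G₂ in ³D₄ in odd characteristic: 2-rank and involutions.
-/

set_option autoImplicit false
set_option maxRecDepth 4000
set_option linter.unusedSectionVars false

namespace Cfsg.Agent.Small.AltSec.D4

open Cfsg.Lie Cfsg.Agent.Lie Cfsg.Agent.Small.D4Torus Cfsg.Agent.Small.Fold
open Cfsg.Agent.Lie.D4 (Setup neZero_rank)
open scoped MatrixGroups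

local notation "GD" => GL chevD4.Idx

variable {K : Type*} [Field K] [Fintype K] {q : ℕ} (S : Setup K q)

include S in
theorem xf_fix {hd : Data chevG2 chevD4 FoldG2.tab FoldG2.Os}
    (hx : FixData chevG2 chevD4 FoldG2.tab FoldG2.Os S.T.R FoldG2.pj)
    {r : ℕ} (hr : r < chevG2.nroots) {t : K} (ht : t ^ q = t) : xf factsD4 FoldG2.tab r t ∈ S.T.fix := by
  rw [xf_eq]
  have hlt : ∀ p ∈ img FoldG2.tab r, p.1 < chevD4.nroots := fun p hp => (hd.lt _ hr p hp).1
  have hG : ((img FoldG2.tab r).map fun p => factsD4.xg p.1 ((p.2 : K) * t)).prod ∈ chevD4.group K :=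
    Subgroup.list_prod_mem _ fun g hg => by
      obtain ⟨p, -, rfl⟩ := List.mem_map.1 hg
      exact factsD4.xg_mem_group _ _
  refine ⟨hG, ?_⟩
  have hsig : ∀ L : List (ℕ × ℤ), (∀ p ∈ L, p.1 < chevD4.nroots) →
      S.T.sig (L.map fun p => factsD4.xg p.1 ((p.2 : K) * t)).prod =
        ((L.map fun p => (S.T.R.img p.1, S.T.R.sign p.1 * p.2)).map
          fun p => factsD4.xg p.1 ((p.2 : K) * t)).prod := by
    intro L
    induction L with
    | nil => intro; simp [S.T.sig_one]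
    | cons a L ih =>
      intro h
      have hmem : (L.map fun p => factsD4.xg p.1 ((p.2 : K) * t)).prod ∈ chevD4.group K :=
        Subgroup.list_prod_mem _ fun g hg => by
          obtain ⟨p, -, rfl⟩ := List.mem_map.1 hg
          exact factsD4.xg_mem_group _ _
      have ha := h a List.mem_cons_self
      simp only [List.map_cons, List.prod_cons]
      rw [S.T.sig_mul _ (factsD4.xg_mem_group _ _) _ hmem, S.T.sig_x _ ha, factsD4.imgX_lt S.T.R ha,
        ih fun p hp => h p (List.mem_cons_of_mem _ hp), hx.expo _ ha, pow_one, map_mul, map_intCast, S.hfr,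
        ht, Int.cast_mul, mul_assoc]
  rw [hsig _ hlt]
  refine List.Perm.prod_eq' ((hx.stable _ hr).map _) ?_
  refine List.pairwise_map.2 (List.pairwise_of_forall_mem_list fun p hp v hv => ?_)
  have hp' := (hx.stable _ hr).mem_iff.1 hp
  have hv' := (hx.stable _ hr).mem_iff.1 hv
  by_cases hne : p.1 = v.1
  · rw [hne]
    show factsD4.xg _ _ * factsD4.xg _ _ = factsD4.xg _ _ * factsD4.xg _ _
    rw [← factsD4.xg_add, ← factsD4.xg_add, add_comm]
  · exact commute_img hd hr hp' hv' hne (Or.inl rfl) (Or.inl rfl) _ _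

include S in
/-- The group of type G₂ over the subfield inside ³D₄. -/
theorem exists_embed {F : Type*} [Field F] [Fintype F] (f : F →+* K) (hf : ∀ t, f t ^ q = f t) :
    ∃ ψ : ↥(chevG2.group F) →* ↥(twistedD4 K q), Function.Injective ψ := by
  obtain ⟨hF'⟩ := facts_of_mem (D := chevG2) (by simp)
  have hH : StHyp chevG2 := stHyp_of_mem (by simp)
  have hd : Data chevG2 chevD4 FoldG2.tab FoldG2.Os := data_of_ok FoldG2.okShape' (fun r hr => FoldG2.row hr)
    FoldG2.okWeyl' (facts_of_mem (D := chevG2) (by simp)) FoldG2.okEta' FoldG2.okN1 FoldG2.okN2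
  have hx : FixData chevG2 chevD4 FoldG2.tab FoldG2.Os S.T.R FoldG2.pj := by
    rw [S.hR]; exact fixData_of_ok FoldG2.okFix'
  obtain ⟨e⟩ := iso_range (F := F) (hF := factsD4) hd hF' hH (hF'.torus_injective kerCertG2)
  have hle : (foldHom (F := F) (hF := factsD4) hd).range ≤ (twistedD4 K q).comap (gmap f) := by
    rw [MonoidHom.range_eq_map, ← PresentedGroup.closure_range_of, MonoidHom.map_closure, Subgroup.closure_le]
    rintro _ ⟨_, ⟨⟨r, t⟩, rfl⟩, rfl⟩
    show gmap f (foldHom hd (PresentedGroup.of (r, t))) ∈ twistedD4 K q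
    rw [show PresentedGroup.of (rels := chevG2.steinbergRels F) (r, t) = chevG2.stGen F r t by
      rw [ChevalleyDatum.stGen, ChevalleyDatum.stX, dif_pos r.isLt]; rfl, foldHom_x, xf_eq, map_list_prod,
      List.map_map, ← fix_eq S]
    have h := xf_fix S (hd := hd) hx r.isLt (hf t)
    rw [xf_eq] at h
    rwa [List.map_congr_left (f := ⇑(gmap f) ∘ fun p : ℕ × ℤ => factsD4.xg p.1 ((p.2 : F) * t))
      (g := fun p : ℕ × ℤ => factsD4.xg p.1 ((p.2 : K) * f t))
      fun p _ => by rw [Function.comp_apply, factsD4.gmap_xg, map_mul, map_intCast]]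
  let ψ : ↥(chevG2.group F) →* ↥(twistedD4 K q) :=
    (((gmap f).comp (foldHom (F := F) (hF := factsD4) hd).range.subtype).comp e.toMonoidHom).codRestrict _
      fun g => hle (e g).2
  exact ⟨ψ, fun a b h => e.injective (Subtype.ext (gmap_injective f (congrArg Subtype.val h)))⟩

include S in
/-- 2-rank at most three and one class of involutions. -/
theorem two_facts (hodd : Odd q) :
    (∀ E : Subgroup ↥(twistedD4 K q), (∀ x ∈ E, x ^ 2 = 1) → Nat.card ↥E ≤ 8) ∧
      ∀ s t : ↥(twistedD4 K q), orderOf s = 2 → orderOf t = 2 → IsConj s t := by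
  classical
  haveI : Fact (Nat.Prime 2) := ⟨Nat.prime_two⟩
  obtain ⟨fr, hfr⟩ : ∃ fr : K →+* K, ∀ t, fr t = t ^ q := ⟨S.T.fr, S.hfr⟩
  let F := RingHom.eqLocusField fr (RingHom.id K)
  letI : Fintype ↥F := Fintype.ofFinite _
  have hmem : ∀ t : K, t ∈ F ↔ t ^ q = t := fun t => by rw [← hfr]; exact Iff.rfl
  have hF : Fintype.card ↥F = q := by
    rw [← Nat.card_eq_fintype_card]
    refine Eq.trans ?_ (card_pow_eq_self (q := q) (F := K) S.hq S.hK)
    exact Nat.card_congr (Equiv.subtypeEquivRight hmem)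
  have hFodd : Odd (Fintype.card ↥F) := by rw [hF]; exact hodd
  obtain ⟨ψ, hψ⟩ := exists_embed S F.subtype fun t => (hmem _).1 t.2
  set R := ψ.range with hR
  have hcard : Nat.card ↥R = q ^ 6 * (q ^ 2 - 1) * (q ^ 6 - 1) := by
    rw [hR, ← Nat.card_congr (MonoidHom.ofInjective hψ).toEquiv, Cfsg.Agent.S1059.result (F := ↥F) hF]
  have hRi : ¬ 2 ∣ R.index := by
    have h := R.card_mul_index
    rw [hcard, S.card_group, show q ^ 12 * (q ^ 2 - 1) * (q ^ 6 - 1) * (q ^ 8 + q ^ 4 + 1) =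
      q ^ 6 * (q ^ 2 - 1) * (q ^ 6 - 1) * (q ^ 6 * (q ^ 8 + q ^ 4 + 1)) by ring] at h
    have hq2 := S.hq
    have h1 : 0 < q ^ 2 - 1 := Nat.sub_pos_of_lt (Nat.one_lt_pow two_ne_zero (by omega))
    have h2 : 0 < q ^ 6 - 1 := Nat.sub_pos_of_lt (Nat.one_lt_pow (by norm_num) (by omega))
    rw [Nat.eq_of_mul_eq_mul_left (by positivity) h, Nat.dvd_iff_mod_eq_zero]
    simp [Nat.mul_mod, Nat.add_mod, Nat.pow_mod, Nat.odd_iff.1 hodd]
  obtain ⟨P⟩ : Nonempty (Sylow 2 ↥R) := inferInstance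
  have hP : IsPGroup 2 ↥((P : Subgroup ↥R).map R.subtype) := P.2.map _
  have hPi : ¬ 2 ∣ ((P : Subgroup ↥R).map R.subtype).index := by
    rw [Subgroup.index_map_subtype]
    intro h
    rcases (Nat.Prime.dvd_mul Nat.prime_two).1 h with h | h
    · exact P.not_dvd_index h
    · exact hRi h
  have into : ∀ E : Subgroup ↥(twistedD4 K q), IsPGroup 2 ↥E →
      ∃ c : ↥(twistedD4 K q), ∀ y ∈ E, c * y * c⁻¹ ∈ R := by
    intro E hE
    obtain ⟨T, hT⟩ := hE.exists_le_sylow
    obtain ⟨c, hc⟩ := MulAction.exists_smul_eq ↥(twistedD4 K q) T (hP.toSylow hPi)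
    refine ⟨c, fun y hy => ?_⟩
    have h1 : c * y * c⁻¹ ∈ ((c • T : Sylow 2 ↥(twistedD4 K q)) : Subgroup ↥(twistedD4 K q)) := by
      rw [Sylow.coe_subgroup_smul]
      exact Subgroup.mem_map.2 ⟨y, hT hy, rfl⟩
    rw [hc] at h1
    obtain ⟨z, -, hz⟩ := Subgroup.mem_map.1 h1
    rw [← hz]
    exact z.2
  refine ⟨fun E hE => ?_, fun s t hs ht => ?_⟩
  · obtain ⟨c, hc⟩ := into E fun x => ⟨1, Subtype.ext (by simpa using hE x x.2)⟩
    let φ : ↥(twistedD4 K q) →* ↥(twistedD4 K q) := (MulAut.conj c).toMonoidHom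
    have hle : E.map φ ≤ R := by
      rintro _ ⟨y, hy, rfl⟩
      exact hc y hy
    have h1 : Nat.card ↥E = Nat.card ↥((E.map φ).comap ψ) := by
      rw [Nat.card_congr (Subgroup.equivMapOfInjective E φ (MulAut.conj c).injective).toEquiv]
      conv_lhs => rw [← Subgroup.map_comap_eq_self (f := ψ) hle]
      exact (Nat.card_congr (Subgroup.equivMapOfInjective _ ψ hψ).toEquiv).symm
    rw [h1]
    refine G2.card_elem_le hFodd _ fun x hx => hψ ?_
    obtain ⟨y, hy, hxy⟩ := Subgroup.mem_map.1 (Subgroup.mem_comap.1 hx)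
    rw [map_pow, ← hxy, ← map_pow, hE y hy, map_one, map_one]
  · have pre : ∀ x : ↥(twistedD4 K q), orderOf x = 2 →
        ∃ y : ↥(chevG2.group ↥F), orderOf y = 2 ∧ IsConj x (ψ y) := by
      intro x hx
      obtain ⟨c, hc⟩ := into (Subgroup.zpowers x) (IsPGroup.of_card (n := 1)
        (by rw [Nat.card_zpowers, hx, pow_one]))
      obtain ⟨y, hy⟩ := hc x (Subgroup.mem_zpowers x)
      refine ⟨y, ?_, isConj_iff.2 ⟨c, hy.symm⟩⟩
      rw [← orderOf_injective ψ hψ, hy, ← hx]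
      exact orderOf_injective (MulAut.conj c).toMonoidHom (MulAut.conj c).injective x
    obtain ⟨a, ha, hsa⟩ := pre s hs
    obtain ⟨b, hb, htb⟩ := pre t ht
    exact hsa.trans ((ψ.map_isConj (Cfsg.Agent.S4278.result hFodd a b ha hb)).trans htb.symm)

end Cfsg.Agent.Small.AltSec.D4
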