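import Cfsg.Agent.Lib.Small.AltSec.D4.Pair
import Cfsg.Agent.Lib.Small.AltSec.D4.Five
import Cfsg.Agent.Lib.Small.AltSec.D4.Rank

/-!
The centraliser of an involution of ³D₄ and alternating sections in characteristic five.
-/

set_option autoImplicit false
set_option maxRecDepth 4000
set_option linter.unusedSectionVars false
set_option linter.unusedVariables false
set_option linter.style.haveILetI false

namespace Cfsg.Agent.Small.AltSec.D4

open Cfsg.Lie Matrix Cfsg.Agent.Lie Cfsg.Agent.Small.D4Torus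
open Cfsg.Agent.Lie.D4 (Setup Os ws neZero_rank)
open Cfsg.Agent.Lie.D4.Setup (cB)
open scoped MatrixGroups Pointwise

local notation "GD" => GL chevD4.Idx

variable {K : Type*} [Field K] [Fintype K] {q : ℕ} (S : Setup K q)

/-- The parity of a root at the involution. -/
def par (r : ℕ) : ℤ := chevD4.cartan 0 r + chevD4.cartan 2 r + chevD4.cartan 3 r

theorem par_pos : ∀ r ∈ Facts.posL chevD4, par r % 2 = 0 → r ∈ [12, 13, 18, 23] := by decide +kernel

theorem par_weyl : ∀ b : Fin ws.length, (∀ r : Fin 24, par (act b r.val) % 2 = par r.val % 2) →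
    b.val = 0 ∨ b.val = 2 ∨ b.val = 9 ∨ b.val = 11 := by decide +kernel

/-- The node word of the reflection in the highest root. -/
def wordA : List (Fin chevD4.rank) := word0 ++ (1 : Fin chevD4.rank) :: word0.reverse

theorem keys : ∀ b : Fin ws.length,
    (b.val = 0 → orbN b = []) ∧ (b.val = 2 → orbN b = [(0 : Fin chevD4.rank), 2, 3]) ∧
    (b.val = 9 → wKey chevD4 ((orbN b).map Fin.val) = wKey chevD4 (wordA.map Fin.val)) ∧
    (b.val = 11 → wKey chevD4 ((orbN b).map Fin.val) =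
      wKey chevD4 ((wordA ++ [(0 : Fin chevD4.rank), 2, 3]).map Fin.val)) := by
  decide +kernel

theorem closedL : ClosedList chevD4 [12, 13, 18, 23] :=
  ⟨by decide +kernel, by decide +kernel, by decide +kernel⟩

theorem okL : okComm chevD4 [12, 13, 18, 23] = true ∧ Twist.okStable chevD4 graphD4a [12, 13, 18, 23] = true ∧
    graphD4a.img 18 = 13 ∧ graphD4a.img 13 = 12 ∧ graphD4a.img 23 = 23 := by decide +kernel

theorem torChar_z (hodd : Odd q) {r : ℕ} :
    (torChar chevD4 (S.crd (-1) 1) r : K) = (-1) ^ par r := by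
  have h : ((-1 : Kˣ)) ^ q = -1 := hodd.neg_one_pow
  rw [char_tt, h, h, _root_.one_zpow, mul_one, Units.val_mul, Units.val_mul, Units.val_zpow_eq_zpow_val,
    Units.val_zpow_eq_zpow_val, Units.val_zpow_eq_zpow_val, Units.val_neg, Units.val_one, par,
    zpow_add₀ (by norm_num), zpow_add₀ (by norm_num)]

theorem zpow_parity (h2 : (-1 : K) ≠ 1) {a b : ℤ} (h : (-1 : K) ^ a = (-1) ^ b) : a % 2 = b % 2 := by
  rcases Int.even_or_odd a with ha | ha <;> rcases Int.even_or_odd b with hb | hb <;>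
    simp only [ha.neg_one_zpow, hb.neg_one_zpow] at h
  · rw [Int.even_iff.1 ha, Int.even_iff.1 hb]
  · exact absurd h.symm h2
  · exact absurd h h2
  · rw [Int.odd_iff.1 ha, Int.odd_iff.1 hb]

variable {F : Type*} [Field F] [Fintype F] {f : F →+* K}

/-- A fixed unipotent element commuting with the involution lies in the two subgroups. -/
theorem part_mem (hodd : Odd q) (h2 : (-1 : K) ≠ 1) (hsur : ∀ t : K, t ^ q = t → ∃ x, f x = t)
    {L : List ℕ} (hcl : ClosedList chevD4 L) (hL : ∀ r ∈ L, r ∈ Facts.posL chevD4) {u : GD K}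
    (hu : u ∈ (factsD4.tsys K).US L) (huf : u ∈ S.T.fix)
    (hc : tt S (-1) 1 * u * (tt S (-1) 1)⁻¹ = u) : u ∈ (phiAB S f).range := by
  obtain ⟨c, hce⟩ := CommSys.exists_prodOver (factsD4.sys K).toCommSys hcl hu
  subst hce
  have hnz : ∀ r ∈ L, c r ≠ 0 → r ∈ [12, 13, 18, 23] := by
    intro r hr hne
    have h := hc
    rw [tt, factsD4.torus_conj_prodOver _ fun s hs => (hcl.mem_pos s hs).2] at h
    have h1 := factsD4.prodOver_inj hcl h r hr
    rw [mul_eq_right₀ hne, torChar_z S hodd] at h1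
    exact par_pos r (hL r hr) (zpow_parity h2 (b := 0) (h1.trans (zpow_zero _).symm))
  classical
  have hu' : (factsD4.sys K).prodOver L c ∈ (factsD4.tsys K).US [12, 13, 18, 23] := by
    rw [prodOver_filter (fun r => decide (r ∈ [12, 13, 18, 23])) (c := c) fun r hr hd => by
      by_contra hne
      exact of_decide_eq_false hd (hnz r hr hne)]
    refine CommSys.US_mono _ (fun r hr => ?_) (CommSys.prodOver_mem _ _ _)
    exact of_decide_eq_true (List.mem_filter.1 hr).2
  obtain ⟨d, hd, hrel⟩ := S.T.fix_US closedL okL.1 (by rw [S.hR]; exact okL.2.1) hu' huf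
  have e13 : d 13 = d 18 ^ q := by
    have := hrel 18 (by simp)
    rwa [S.hR, okL.2.2.1, S.hfr, ← S.hR, S.expo_one (by norm_num), pow_one] at this
  have e12 : d 12 = (d 18 ^ q) ^ q := by
    have := hrel 13 (by simp)
    rwa [S.hR, okL.2.2.2.1, S.hfr, ← S.hR, S.expo_one (by norm_num), pow_one, e13] at this
  have e23 : d 23 ^ q = d 23 := by
    have := hrel 23 (by simp)
    rw [S.hR, okL.2.2.2.2, S.hfr, ← S.hR, S.expo_one (by norm_num), pow_one] at this
    exact this.symm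
  rw [hd, factsD4.prodOver_perm okL.1 (L' := [23, 18, 13, 12]) (by decide) d]
  have e : (factsD4.sys K).prodOver [23, 18, 13, 12] d =
      factsD4.xg 23 (d 23) * phiB S (upS (d 18)) := by
    rw [phiB_up]
    simp [CommSys.prodOver, Facts.sys_x, cB, e13, e12]
  rw [e]
  exact mul_mem (long_mem S hsur (Or.inl rfl) e23) (phiB_mem S f _)

/-- The subgroup of fixed torus elements and the two subgroups. -/
noncomputable def MM (f : F →+* K) : Subgroup (GD K) :=
  (phiAB S f).range ⊔ (chevD4.diagonalSubgroup K ⊓ twistedD4 K q)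

theorem range_MM {y : GD K} (h : y ∈ (phiAB S f).range) : y ∈ MM S f := Subgroup.mem_sup_left h

theorem torus_MM (hf : ∀ t, f t ^ q = f t) {y : GD K} (h : y ∈ (factsD4.tsys K).H) (hy : y ∈ twistedD4 K q) :
    y ∈ MM S f := by
  refine Subgroup.mem_sup_right ⟨?_, hy⟩
  rw [← factsD4.tsys_H]
  exact h

theorem same_key (hf : ∀ t, f t ^ q = f t) {ω ω' : List (Fin chevD4.rank)}
    (hk : wKey chevD4 (ω.map Fin.val) = wKey chevD4 (ω'.map Fin.val))
    (hω : (factsD4.tsys K).nw ω ∈ twistedD4 K q) (hω' : (factsD4.tsys K).nw ω' ∈ twistedD4 K q)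
    (h : (factsD4.tsys K).nw ω' ∈ MM S f) : (factsD4.tsys K).nw ω ∈ MM S f := by
  obtain ⟨g, hg, hge⟩ := (factsD4.tsys K).nw_eq (ω := ω) rfl
  obtain ⟨g', hg', hge'⟩ := (factsD4.tsys K).nw_eq (ω := ω') (w := factsD4.refSys.pr ω)
    (factsD4.pr_eq_of_key hk).symm
  have e : (factsD4.tsys K).nw ω * ((factsD4.tsys K).nw ω')⁻¹ = g * g'⁻¹ := by rw [hge, hge']; group
  have := mul_mem (torus_MM S hf (e ▸ mul_mem hg (inv_mem hg'))
    (mul_mem hω (inv_mem hω'))) h
  rwa [inv_mul_cancel_right] at this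

theorem nwA_mem (hf : ∀ t, f t ^ q = f t) :
    (factsD4.tsys K).nw wordA ∈ MM S f ∧ (factsD4.tsys K).nw wordA ∈ twistedD4 K q := by
  obtain ⟨n0, hn0⟩ : ∃ n0, n0 = (factsD4.tsys K).nw word0 := ⟨_, rfl⟩
  have hn0t : n0 ∈ twistedD4 K q := hn0 ▸ nwOrb_mem S _
  have hs : (factsD4.tsys K).nS (1 : Fin chevD4.rank) ∈ twistedD4 K q := by
    have := nwOrb_mem S [0]
    rwa [show orbWord chevD4 Os [0] = [(1 : Fin chevD4.rank)] by decide +kernel, TorusSys.nw_singleton] at this
  have hrev : (factsD4.tsys K).nw word0.reverse ∈ twistedD4 K q := by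
    rw [show word0.reverse = [(3 : Fin chevD4.rank), 2, 0, 1] by decide +kernel]
    have h1 : (factsD4.tsys K).nw [(3 : Fin chevD4.rank), 2, 0] = (factsD4.tsys K).nw [(0 : Fin chevD4.rank), 2, 3] := by
      have hc : ∀ i j : Fin chevD4.rank, phiN K i.val i.isLt antS = (factsD4.tsys K).nS i := fun i _ => by
        rw [antS_eq, map_mul, map_mul, phiN_up, phiN_lo, factsD4.tsys_nS, factsD4.ng_eq, inv_one]
      obtain ⟨a, b, c, -⟩ := nodes
      have h02 := phiN_commute (K := K) (i := 0) (j := 2) (by decide +kernel) (by decide +kernel) (by simp [a])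
        (by simp [b]) (by simp [a, b]) antS antS
      have h03 := phiN_commute (K := K) (i := 0) (j := 3) (by decide +kernel) (by decide +kernel) (by simp [a])
        (by simp [c]) (by simp [a, c]) antS antS
      have h23 := phiN_commute (K := K) (i := 2) (j := 3) (by decide +kernel) (by decide +kernel) (by simp [b])
        (by simp [c]) (by simp [b, c]) antS antS
      simp only [TorusSys.nw_cons, TorusSys.nw_nil, mul_one]
      rw [← hc 0 0, ← hc 2 2, ← hc 3 3]
      show phiN K 3 (by decide +kernel) antS * (phiN K 2 (by decide +kernel) antS * phiN K 0 (by decide +kernel) antS) =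
        phiN K 0 (by decide +kernel) antS * (phiN K 2 (by decide +kernel) antS * phiN K 3 (by decide +kernel) antS)
      rw [← mul_assoc, ← h23.eq, mul_assoc, ← h03.eq, ← mul_assoc, ← h02.eq, mul_assoc]
    rw [show [(3 : Fin chevD4.rank), 2, 0, 1] = [(3 : Fin chevD4.rank), 2, 0] ++ [1] from rfl, TorusSys.nw_append,
      h1, TorusSys.nw_singleton]
    refine mul_mem ?_ hs
    have := nwOrb_mem S [1]
    rwa [show orbWord chevD4 Os [1] = [(0 : Fin chevD4.rank), 2, 3] by decide +kernel] at this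
  have hall : (factsD4.tsys K).nw wordA = n0 * (factsD4.tsys K).nS 1 * (factsD4.tsys K).nw word0.reverse := by
    rw [wordA, TorusSys.nw_append, TorusSys.nw_cons, hn0, mul_assoc]
  have ht : (factsD4.tsys K).nw wordA ∈ twistedD4 K q := by rw [hall]; exact mul_mem (mul_mem hn0t hs) hrev
  refine ⟨?_, ht⟩
  obtain ⟨g, hg, hge⟩ := (factsD4.tsys K).nw_inv word0
  have hA : n0 * (factsD4.tsys K).nS 1 * n0⁻¹ ∈ (phiAB S f).range := by
    have e : n0 * (factsD4.tsys K).nS 1 * n0⁻¹ = phiA f antS := by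
      show _ = (factsD4.tsys K).nw word0 * phi K (Matrix.SpecialLinearGroup.map f antS) *
        ((factsD4.tsys K).nw word0)⁻¹
      rw [map_antS, ← hn0, antS_eq, map_mul, map_mul, phi_up, phi_lo, factsD4.tsys_nS, factsD4.ng_eq, inv_one]
      rfl
    rw [e]; exact phiA_mem S f _
  have e2 : (factsD4.tsys K).nw wordA =
      n0 * ((factsD4.tsys K).nS 1 * g⁻¹ * ((factsD4.tsys K).nS 1)⁻¹) * n0⁻¹ *
        (n0 * (factsD4.tsys K).nS 1 * n0⁻¹) := by
    rw [hall, show (factsD4.tsys K).nw word0.reverse = g⁻¹ * n0⁻¹ by rw [hn0, hge, inv_mul_cancel_left]]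
    group
  have hH : n0 * ((factsD4.tsys K).nS 1 * g⁻¹ * ((factsD4.tsys K).nS 1)⁻¹) * n0⁻¹ ∈ (factsD4.tsys K).H := by
    rw [hn0]
    refine (factsD4.tsys K).nw_H _ ?_
    have := (factsD4.tsys K).nw_H [(1 : Fin chevD4.rank)] (inv_mem hg)
    rwa [TorusSys.nw_singleton] at this
  rw [e2]
  refine mul_mem (torus_MM S hf hH ?_) (range_MM S hA)
  have h3 := mul_mem ht (inv_mem (mul_mem (mul_mem hn0t hs) (inv_mem hn0t)))
  rwa [e2, mul_inv_cancel_right] at h3

/-- The centraliser of the involution. -/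
theorem cent_le (hodd : Odd q) (h2 : (-1 : K) ≠ 1) (hf : ∀ t, f t ^ q = f t)
    (hsur : ∀ t : K, t ^ q = t → ∃ x, f x = t) {g : GD K} (hg : g ∈ twistedD4 K q)
    (hc : Commute g (tt S (-1) 1)) : g ∈ MM S f := by
  obtain ⟨b, t, m, hm, hn, u, hu, huf, hue, v, hv, hvf, hve, rfl⟩ :=
    exists_fusion S (S.le_fix hg) (tt_mem_H S _ _) (tt_mem_H S _ _) hc.eq
  have hnz : (factsD4.tsys K).nw (orbN b) * tt S (-1) 1 = tt S (-1) 1 * (factsD4.tsys K).nw (orbN b) := by
    rw [← mul_assoc (tt S (-1) 1), tt_mul, mul_comm (-1 : Kˣ), mul_comm (1 : Kˣ), ← tt_mul, mul_assoc,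
      mul_assoc] at hn
    exact mul_left_cancel hn
  have hb : b.val = 0 ∨ b.val = 2 ∨ b.val = 9 ∨ b.val = 11 := by
    refine par_weyl b fun r => zpow_parity h2 ?_
    obtain ⟨e, he, hee⟩ := (factsD4.tsys K).nw_conj (orbN b) (⟨r.val, r.isLt⟩ : Fin chevD4.nroots)
    have hr' : ((factsD4.refSys.pr (orbN b) • (⟨r.val, r.isLt⟩ : Fin chevD4.nroots) : Fin chevD4.nroots).val) = act b r.val := by
      rw [factsD4.pr_smul_val]; rfl
    have hlt : act b r.val < chevD4.nroots := hr' ▸ Fin.isLt _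
    have h1 : (factsD4.tsys K).nw (orbN b) * factsD4.xg r.val 1 * ((factsD4.tsys K).nw (orbN b))⁻¹ =
        factsD4.xg (act b r.val) e := by
      have h := hee 1
      rwa [hr', mul_one] at h
    have h : tt S (-1) 1 * _ * (tt S (-1) 1)⁻¹ = tt S (-1) 1 * _ * (tt S (-1) 1)⁻¹ :=
      congrArg (fun x => tt S (-1) 1 * x * (tt S (-1) 1)⁻¹) h1
    rw [show tt S (-1) 1 * ((factsD4.tsys K).nw (orbN b) * factsD4.xg r.val 1 * ((factsD4.tsys K).nw (orbN b))⁻¹) *
      (tt S (-1) 1)⁻¹ = (tt S (-1) 1 * (factsD4.tsys K).nw (orbN b)) * factsD4.xg r.val 1 *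
        (tt S (-1) 1 * (factsD4.tsys K).nw (orbN b))⁻¹ by group, ← hnz,
      show (factsD4.tsys K).nw (orbN b) * tt S (-1) 1 * factsD4.xg r.val 1 *
        ((factsD4.tsys K).nw (orbN b) * tt S (-1) 1)⁻¹ = (factsD4.tsys K).nw (orbN b) *
          (tt S (-1) 1 * factsD4.xg r.val 1 * (tt S (-1) 1)⁻¹) * ((factsD4.tsys K).nw (orbN b))⁻¹ by group,
      tt, factsD4.torus_conj _ (show r.val < chevD4.nroots from r.isLt), factsD4.torus_conj _ hlt] at h
    have h3 := hee ((torChar chevD4 (S.crd (-1) 1) r.val : K) * 1)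
    rw [hr'] at h3
    have h4 := factsD4.xg_inj hlt (h3.symm.trans h)
    rw [mul_one, torChar_z S hodd, torChar_z S hodd, mul_comm] at h4
    exact (mul_right_cancel₀ (left_ne_zero_of_mul_eq_one he) h4).symm
  have hB : (factsD4.tsys K).nw [(0 : Fin chevD4.rank), 2, 3] ∈ MM S f := by
    rw [← phiB_ant]; exact range_MM S (phiB_mem S f _)
  have hBt : (factsD4.tsys K).nw [(0 : Fin chevD4.rank), 2, 3] ∈ twistedD4 K q := by
    have := nwOrb_mem S [1]
    rwa [show orbWord chevD4 Os [1] = [(0 : Fin chevD4.rank), 2, 3] by decide +kernel] at this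
  obtain ⟨hA, hAt⟩ := nwA_mem S hf
  have hw : (factsD4.tsys K).nw (orbN b) ∈ MM S f := by
    obtain ⟨k0, k2, k9, k11⟩ := keys b
    rcases hb with h | h | h | h
    · rw [k0 h]; exact one_mem _
    · rw [k2 h]; exact hB
    · exact same_key S hf (k9 h) (nwOrb_mem S _) hAt hA
    · exact same_key S hf (k11 h) (nwOrb_mem S _)
        (by rw [TorusSys.nw_append]; exact mul_mem hAt hBt)
        (by rw [TorusSys.nw_append]; exact mul_mem hA hB)
  refine mul_mem (mul_mem ?_ (mul_mem (torus_MM S hf (tt_mem_H S _ _) (S.torus_mem hm)) hw)) ?_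
  · exact range_MM S (part_mem S hodd h2 hsur factsD4.closedList_posL (fun r hr => hr) hu huf hue)
  · refine range_MM S (part_mem S hodd h2 hsur (TorusSys.closed_invList _) (fun r hr => ?_) hv hvf hve)
    obtain ⟨h, hi⟩ := TorusSys.mem_invList.1 hr
    rw [TorusSys.invList, List.mem_filter] at hr
    exact hr.1

/-- A perfect section of a group with abelian top lies at the bottom. -/
theorem section_derived {G A : Type*} [Group G] [Group A] [IsSimpleGroup A] {a₀ b₀ : A} (hab : a₀ * b₀ ≠ b₀ * a₀)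
    (R T : Subgroup G) (hTn : T ≤ Subgroup.normalizer (R : Set G)) (hT : ∀ x ∈ T, ∀ y ∈ T, x * y = y * x)
    (H : Subgroup G) (hH : H ≤ R ⊔ T) (π : ↥H →* A) (hπ : Function.Surjective π) :
    ∃ (H' : Subgroup G) (π' : ↥H' →* A), Function.Surjective π' ∧ H' ≤ R := by
  have hHn : H ≤ Subgroup.normalizer (R : Set G) := hH.trans (sup_le Subgroup.le_normalizer hTn)
  haveI hn : (R.subgroupOf H).Normal := Subgroup.normal_subgroupOf_of_le_normalizer hHn
  haveI : ((R.subgroupOf H).map π).Normal := hn.map π hπ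
  have hmem : ∀ x ∈ H, ∃ r ∈ R, ∃ t ∈ T, x = r * t := by
    intro x hx
    have h : x ∈ ((R : Set G) * (T : Set G)) := by
      rw [← Subgroup.coe_mul_of_right_le_normalizer_left R T hTn]; exact hH hx
    obtain ⟨r, hr, t, ht, rfl⟩ := Set.mem_mul.1 h
    exact ⟨r, hr, t, ht, rfl⟩
  have hcom : ∀ x ∈ H, ∀ y ∈ H, x * y * x⁻¹ * y⁻¹ ∈ R := by
    intro x hx y hy
    obtain ⟨r, hr, t, ht, rfl⟩ := hmem x hx
    obtain ⟨s, hs, v, hv, rfl⟩ := hmem y hy
    have hconj : ∀ t' ∈ T, ∀ r' ∈ R, t' * r' * t'⁻¹ ∈ R := fun t' ht' r' hr' =>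
      (Subgroup.mem_normalizer_iff.1 (hTn ht') r').1 hr'
    have hvt : v * t = t * v := hT v hv t ht
    have e : r * t * (s * v) * (r * t)⁻¹ * (s * v)⁻¹ = r * (t * s * t⁻¹) * (v * r⁻¹ * v⁻¹) * s⁻¹ :=
      calc r * t * (s * v) * (r * t)⁻¹ * (s * v)⁻¹ = r * (t * s * t⁻¹) * ((t * v * t⁻¹) * r⁻¹ * v⁻¹) * s⁻¹ := by
            group
        _ = _ := by rw [← hvt, mul_inv_cancel_right]
    rw [e]
    exact mul_mem (mul_mem (mul_mem hr (hconj t ht s hs)) (hconj v hv _ (inv_mem hr))) (inv_mem hs)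
  rcases IsSimpleGroup.eq_bot_or_eq_top_of_normal ((R.subgroupOf H).map π) inferInstance with h | h
  · obtain ⟨x, rfl⟩ := hπ a₀
    obtain ⟨y, rfl⟩ := hπ b₀
    have : π (x * y * x⁻¹ * y⁻¹) ∈ (R.subgroupOf H).map π :=
      Subgroup.mem_map_of_mem π (Subgroup.mem_subgroupOf.2 (hcom _ x.2 _ y.2))
    rw [h, Subgroup.mem_bot, map_mul, map_mul, map_mul, map_inv, map_inv, mul_inv_eq_one, mul_inv_eq_iff_eq_mul]
      at this
    exact absurd this hab
  · refine ⟨H ⊓ R, π.comp (Subgroup.inclusion inf_le_left), fun a => ?_, inf_le_right⟩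
    obtain ⟨x, hx, rfl⟩ := Subgroup.mem_map.1 (h ▸ Subgroup.mem_top a : a ∈ (R.subgroupOf H).map π)
    exact ⟨⟨x, x.2, hx⟩, rfl⟩

end Cfsg.Agent.Small.AltSec.D4
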