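import Cfsg.Agent.Lib.Small.AltSec.G2
import Cfsg.Agent.Lib.Small.D4Torus.Cent

/-!
Fusion in the torus of the triality twisted groups.
-/

set_option autoImplicit false
set_option maxRecDepth 4000
set_option linter.unusedSectionVars false

namespace Cfsg.Agent.Small.AltSec.D4

open Cfsg.Lie Cfsg.Agent.Lie Cfsg.Agent.Small.D4Torus
open Cfsg.Agent.Lie.D4 (Setup Os ws neZero_rank okPi_ws)
open scoped MatrixGroups

local notation "GD" => GL chevD4.Idx

variable {K : Type*} [Field K] [Fintype K] {q : ℕ} (S : Setup K q)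

/-- A fixed element in normal form. -/
theorem exists_form {g : GD K} (hg : g ∈ S.T.fix) :
    ∃ (b : Fin ws.length) (t m : Kˣ), m ^ q = m ∧ ∃ u ∈ (factsD4.tsys K).U, u ∈ S.T.fix ∧
      ∃ v ∈ (factsD4.tsys K).US (TorusSys.invList (factsD4.refSys.pr (orbN b))), v ∈ S.T.fix ∧
        g = u * (tt S t m * (factsD4.tsys K).nw (orbN b)) * v := by
  obtain ⟨w, hw, u, hu, huf, a, ha, hnf, v, hv, hvf, rfl⟩ := S.T.fixed_decomp hg
  obtain ⟨b, hb⟩ := (S.data.piMap_bij okPi_ws).2 ⟨w, hw⟩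
  have hbw : factsD4.refSys.pr (orbN b) = w := congrArg Subtype.val hb
  obtain ⟨c, hc, hce⟩ := (factsD4.tsys K).nw_eq (ω := orbN b) (w := w) hbw
  have hnw : (factsD4.tsys K).nw (orbN b) ∈ S.T.fix := S.le_fix (nwOrb_mem S _)
  have hac : a * c⁻¹ ∈ S.T.fix := by
    have := mul_mem hnf (inv_mem hnw)
    rwa [hce, show a * (factsD4.tsys K).nW w * (c * (factsD4.tsys K).nW w)⁻¹ = a * c⁻¹ by group] at this
  obtain ⟨t, m, hm, htm⟩ := S.exists_crd (by rw [← factsD4.tsys_H]; exact mul_mem ha (inv_mem hc)) hac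
  refine ⟨b, t, m, hm, u, hu, huf, v, by rw [hbw]; exact hv, hvf, ?_⟩
  rw [show tt S t m = a * c⁻¹ from htm.symm, hce]
  group

include S in
/-- The twisted group is the fixed group. -/
theorem fix_eq : S.T.fix = twistedD4 K q := by
  refine le_antisymm (fun g hg => ?_) S.le_fix
  obtain ⟨b, t, m, hm, u, hu, huf, v, hv, hvf, rfl⟩ := exists_form S hg
  refine mul_mem (mul_mem (S.data.U_fix_le ⟨hu, huf⟩) (mul_mem (S.torus_mem hm) (nwOrb_mem S _))) ?_
  exact (S.data.inv_le_card (S.data.pr_piFix _ (S.data.okPi_lt okPi_ws b))).1 ⟨hv, hvf⟩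

theorem H_commute {x y : GD K} (hx : x ∈ (factsD4.tsys K).H) (hy : y ∈ (factsD4.tsys K).H) : x * y = y * x := by
  rw [factsD4.tsys_H, factsD4.diagonalSubgroup_eq] at hx hy
  obtain ⟨s, rfl⟩ := hx
  obtain ⟨s', rfl⟩ := hy
  rw [← map_mul, mul_comm, map_mul]

/-- The parts of a fixed element carrying a torus element into the torus. -/
theorem exists_fusion {g x y : GD K} (hg : g ∈ S.T.fix) (hx : x ∈ (factsD4.tsys K).H)
    (hy : y ∈ (factsD4.tsys K).H) (h : g * x = y * g) :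
    ∃ (b : Fin ws.length) (t m : Kˣ), m ^ q = m ∧
      (tt S t m * (factsD4.tsys K).nw (orbN b)) * x = y * (tt S t m * (factsD4.tsys K).nw (orbN b)) ∧
      ∃ u ∈ (factsD4.tsys K).U, u ∈ S.T.fix ∧ y * u * y⁻¹ = u ∧
      ∃ v ∈ (factsD4.tsys K).US (TorusSys.invList (factsD4.refSys.pr (orbN b))), v ∈ S.T.fix ∧
        x * v * x⁻¹ = v ∧ g = u * (tt S t m * (factsD4.tsys K).nw (orbN b)) * v := by
  obtain ⟨b, t, m, hm, u, hu, huf, v, hv, hvf, rfl⟩ := exists_form S hg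
  obtain ⟨w, hw⟩ : ∃ w, w = factsD4.refSys.pr (orbN b) := ⟨_, rfl⟩
  obtain ⟨c, hc, hce⟩ := (factsD4.tsys K).nw_eq (ω := orbN b) (w := w) hw.symm
  rw [← hw] at hv
  rw [hce, ← mul_assoc (tt S t m)] at h ⊢
  obtain ⟨a, ha⟩ : ∃ a, a = tt S t m * c := ⟨_, rfl⟩
  have haH : a ∈ (factsD4.tsys K).H := by rw [ha]; exact mul_mem (tt_mem_H S _ _) hc
  rw [← ha] at h ⊢
  have hu' : y * u * y⁻¹ ∈ (factsD4.tsys K).U := (factsD4.tsys K).H_conj_US hy TorusSys.posL_lt hu
  have hv' : x * v * x⁻¹ ∈ (factsD4.tsys K).US (TorusSys.invList w) :=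
    (factsD4.tsys K).H_conj_US hx (fun r hr => (TorusSys.mem_invList.1 hr).1) hv
  obtain ⟨a', ha'eq⟩ : ∃ a', a' = y * a * ((factsD4.tsys K).nW w * x⁻¹ * ((factsD4.tsys K).nW w)⁻¹) := ⟨_, rfl⟩
  have ha' : a' ∈ (factsD4.tsys K).H := by
    rw [ha'eq]; exact mul_mem (mul_mem hy haH) ((factsD4.tsys K).nW_H (inv_mem hx))
  have heq : y * u * y⁻¹ * a' * (factsD4.tsys K).nW w * (x * v * x⁻¹) = u * a * (factsD4.tsys K).nW w * v := by
    have e := mul_inv_eq_iff_eq_mul.2 h.symm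
    rw [ha'eq]
    calc _ = y * (u * (a * (factsD4.tsys K).nW w) * v) * x⁻¹ := by group
      _ = _ := by rw [e]; group
  obtain ⟨-, hb, hve⟩ := factsD4.bruhat_unique
    (mul_mem ((factsD4.tsys K).U_le_B hu') ((factsD4.tsys K).H_le_B ha'))
    (mul_mem ((factsD4.tsys K).U_le_B hu) ((factsD4.tsys K).H_le_B haH)) hv' hv heq
  have hue : y * u * y⁻¹ = u := by
    have h1 : u⁻¹ * (y * u * y⁻¹) = a * a'⁻¹ := by
      rw [inv_mul_eq_iff_eq_mul, ← mul_assoc, ← hb, mul_inv_cancel_right]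
    exact (inv_mul_eq_one.1 (factsD4.U_inter_H (mul_mem (inv_mem hu) hu') (h1 ▸ mul_mem haH (inv_mem ha')))).symm
  have hae : a' = a := by rw [hue] at hb; exact mul_left_cancel hb
  refine ⟨b, t, m, hm, ?_, u, hu, huf, hue, v, hw ▸ hv, hvf, hve, by rw [hce, ha]; group⟩
  rw [hce, ← mul_assoc, ← ha]
  rw [ha'eq] at hae
  calc a * (factsD4.tsys K).nW w * x = y * a * ((factsD4.tsys K).nW w * x⁻¹ * ((factsD4.tsys K).nW w)⁻¹) *
        (factsD4.tsys K).nW w * x := by rw [hae]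
    _ = y * (a * (factsD4.tsys K).nW w) := by group

theorem cox_pow_six (w : (CoxeterMatrix.G₂ : CoxeterMatrix (Fin 2)).Group) : w ^ 6 = 1 := by
  set cs := (CoxeterMatrix.G₂ : CoxeterMatrix (Fin 2)).toCoxeterSystem with hcs
  refine G2.dihedral_pow_six (cs.simple_mul_simple_self 0) (cs.simple_mul_simple_self 1) ?_ ?_ w
  · exact cs.simple_mul_simple_pow 0 1
  · rw [eq_top_iff, ← cs.subgroup_closure_range_simple]
    refine Subgroup.closure_mono ?_
    rintro _ ⟨i, rfl⟩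
    fin_cases i
    · exact Or.inl rfl
    · exact Or.inr rfl

include S in
/-- The sixth power of a monomial element of the twisted group lies in the torus. -/
theorem pow_six_mem {n : GD K} (hN : n ∈ chevD4.monomialSubgroup K) (hn : n ∈ twistedD4 K q) :
    n ^ 6 ∈ (factsD4.tsys K).H := by
  obtain ⟨φ, -, hk⟩ := S.exists_weyl_hom
  have h : (⟨n, hN, hn⟩ : ↥(chevD4.monomialSubgroup K ⊓ twistedD4 K q)) ^ 6 ∈ φ.ker := by
    rw [MonoidHom.mem_ker, map_pow, cox_pow_six]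
  rw [hk, Subgroup.mem_subgroupOf] at h
  rw [factsD4.tsys_H]
  exact h.1

include S in
/-- No element of the twisted group squares or cubes a toral element of order five. -/
theorem no_eigen {g x : GD K} (hg : g ∈ twistedD4 K q) (hx : x ∈ (factsD4.tsys K).H) (h5 : x ^ 5 = 1) {i : ℕ}
    (hi : i = 2 ∨ i = 3) (he : g * x * g⁻¹ = x ^ i) : x = 1 := by
  obtain ⟨b, t, m, hm, hn, -⟩ := exists_fusion S (S.le_fix hg) hx (pow_mem hx i) (mul_inv_eq_iff_eq_mul.1 he)
  obtain ⟨n, hnd⟩ : ∃ n, n = tt S t m * (factsD4.tsys K).nw (orbN b) := ⟨_, rfl⟩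
  rw [← hnd] at hn
  have hn1 : n ∈ twistedD4 K q := by rw [hnd]; exact mul_mem (S.torus_mem hm) (nwOrb_mem S _)
  have hnN : n ∈ chevD4.monomialSubgroup K := by
    rw [← factsD4.tsys_N, hnd]
    exact mul_mem ((factsD4.tsys K).H_le_N (tt_mem_H S _ _)) ((factsD4.tsys K).nw_mem_N _)
  have h6 := pow_six_mem S hnN hn1
  have hne : n * x * n⁻¹ = x ^ i := mul_inv_eq_iff_eq_mul.2 hn
  have key : ∀ k : ℕ, n ^ k * x * (n ^ k)⁻¹ = x ^ i ^ k := by
    intro k
    induction k with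
    | zero => simp
    | succ k ih =>
      rw [pow_succ' n, show n * n ^ k * x * (n * n ^ k)⁻¹ = n * (n ^ k * x * (n ^ k)⁻¹) * n⁻¹ by group, ih,
        ← conj_pow, hne, ← pow_mul, pow_succ']
  have h := key 6
  rw [H_commute h6 hx, mul_inv_cancel_right, pow_eq_pow_mod (i ^ 6) h5] at h
  have h4 : x ^ 3 = 1 := by
    rcases hi with rfl | rfl <;> norm_num at h <;>
      exact mul_left_cancel (a := x) (by rw [mul_one, ← pow_succ']; exact h.symm)
  calc x = x * (x ^ 3) ^ 3 := by rw [h4, one_pow, mul_one]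
    _ = (x ^ 5) ^ 2 := by rw [← pow_mul, ← pow_mul, ← pow_succ']
    _ = 1 := by rw [h5, one_pow]

end Cfsg.Agent.Small.AltSec.D4
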