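import Cfsg.Agent.Lib.Small.AltSec.D4.Cent

/-!
Alternating sections of ³D₄.
-/

set_option autoImplicit false
set_option maxRecDepth 4000
set_option linter.unusedSectionVars false
set_option linter.style.haveILetI false

namespace Cfsg.Agent.Small.AltSec.D4

open Cfsg.Lie Cfsg.Agent.Lie Cfsg.Agent.Small.D4Torus
open Cfsg.Agent.Lie.D4 (Setup neZero_rank)
open scoped MatrixGroups

local notation "GD" => GL chevD4.Idx

variable {K : Type*} [Field K] [Fintype K] {q : ℕ}

theorem alt_le_seven (S : Setup K q) (hodd : Odd q) (r : ℕ)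
    (H : Subgroup ↥(twistedD4 K q)) (N : Subgroup ↥H) [N.Normal]
    (e : ↥H ⧸ N ≃* ↥(alternatingGroup (Fin r))) : r ≤ 7 := by
  classical
  by_contra hc
  haveI : IsSimpleGroup ↥(alternatingGroup (Fin r)) :=
    alternatingGroup.isSimpleGroup (by rw [Nat.card_eq_fintype_card, Fintype.card_fin]; omega)
  haveI : Nontrivial (Fin r) := Fin.nontrivial_iff_two_le.2 (by omega)
  have hA : 5040 < Nat.card ↥(alternatingGroup (Fin r)) := by
    rw [nat_card_alternatingGroup, Nat.card_eq_fintype_card, Fintype.card_fin]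
    have h8 : Nat.factorial 8 ≤ r.factorial := Nat.factorial_le (by omega)
    have : Nat.factorial 8 = 40320 := by decide
    omega
  obtain ⟨hrk, hconj⟩ := two_facts S hodd
  obtain ⟨E, hE, hE2⟩ := alt_four (r := r) (by omega)
  obtain ⟨z, hz, H1, π1, hπ1, hle⟩ := exists_cent hA hrk E hE hE2 H
    (e.toMonoidHom.comp (QuotientGroup.mk' N)) (e.surjective.comp (QuotientGroup.mk'_surjective N))
  -- the toral involution
  have h2K : (2 : K) ≠ 0 := ChevInvol.two_ne_zero_of_odd (by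
    rw [← Nat.card_eq_fintype_card, S.hK]; exact hodd.pow)
  have hm1 : (-1 : K) ≠ 1 := fun h => h2K (by linear_combination -h)
  let z1 : ↥(twistedD4 K q) := ⟨tt S (-1) 1, S.torus_mem (one_pow q)⟩
  have hz1 : orderOf z1 = 2 := by
    refine orderOf_eq_prime (Subtype.ext ?_) fun h => ?_
    · show tt S (-1) 1 ^ 2 = 1
      rw [pow_two, tt_mul, neg_mul_neg, one_mul, tt_one]
    · have h1 : tt S (-1) 1 = tt S 1 1 := (congrArg Subtype.val h).trans (tt_one S).symm
      exact hm1 (by simpa using congrArg Units.val (S.crd_inj h1).1)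
  obtain ⟨c, hzc⟩ := isConj_iff.1 (hconj z z1 hz hz1)
  -- the centraliser
  let φ : ↥(twistedD4 K q) →* GD K := (twistedD4 K q).subtype.comp (MulAut.conj c).toMonoidHom
  have hφ : Function.Injective φ := Subtype.val_injective.comp (MulAut.conj c).injective
  let fr := S.T.fr
  let F := RingHom.eqLocusField fr (RingHom.id K)
  letI : Fintype ↥F := Fintype.ofFinite _
  have hmem : ∀ t : K, t ∈ F ↔ t ^ q = t := fun t => by rw [← S.hfr]; exact Iff.rfl
  have hf : ∀ t : ↥F, F.subtype t ^ q = F.subtype t := fun t => (hmem _).1 t.2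
  have hsur : ∀ t : K, t ^ q = t → ∃ x, F.subtype x = t := fun t ht => ⟨⟨t, (hmem t).2 ht⟩, rfl⟩
  have hHM : H1.map φ ≤ MM S F.subtype := by
    rintro _ ⟨g, hg, rfl⟩
    refine cent_le S hodd hm1 hf hsur (c * g * c⁻¹).2 ?_
    have h := (Subgroup.mem_centralizer_singleton_iff.1 (hle hg))
    have e : c * g * c⁻¹ * z1 = z1 * (c * g * c⁻¹) := by
      rw [← hzc]
      calc c * g * c⁻¹ * (c * z * c⁻¹) = c * (g * z) * c⁻¹ := by group
        _ = c * (z * g) * c⁻¹ := by rw [h]
        _ = _ := by group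
    exact congrArg Subtype.val e
  let eφ := Subgroup.equivMapOfInjective H1 φ hφ
  obtain ⟨a₀, b₀, hab⟩ : ∃ a b : ↥(alternatingGroup (Fin r)), a * b ≠ b * a := by
    obtain ⟨σ, τ, h5, h1, h⟩ := alt_frob (r := r) (by omega)
    refine ⟨τ, σ, fun e => h1 ?_⟩
    rw [e, mul_inv_cancel_right, pow_two] at h
    exact left_eq_mul.1 h
  have hTn : ∀ y ∈ chevD4.diagonalSubgroup K ⊓ twistedD4 K q,
      ∀ w ∈ (phiAB S F.subtype).range, y * w * y⁻¹ ∈ (phiAB S F.subtype).range := by
    intro y hy w hw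
    obtain ⟨t, m, hm, htm⟩ := S.exists_crd hy.1 (S.le_fix hy.2)
    rw [htm]
    exact torus_normalises S hf hsur hm w hw
  obtain ⟨H2, π2, hπ2, hle2⟩ := section_derived hab (phiAB S F.subtype).range
    (chevD4.diagonalSubgroup K ⊓ twistedD4 K q)
    (fun y hy => Subgroup.mem_normalizer_iff.2 fun w => ⟨fun hw => hTn y hy w hw, fun hw => by
      have := hTn y⁻¹ (inv_mem hy) _ hw
      rwa [show y⁻¹ * (y * w * y⁻¹) * y⁻¹⁻¹ = w by group] at this⟩)
    (fun x hx y hy => H_commute (by rw [factsD4.tsys_H]; exact hx.1) (by rw [factsD4.tsys_H]; exact hy.1))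
    (H1.map φ) hHM (π1.comp eφ.symm.toMonoidHom) (hπ1.comp eφ.symm.surjective)
  let f := phiAB S F.subtype
  let π3 : ↥(H2.comap f) →* ↥(alternatingGroup (Fin r)) :=
    π2.comp ((f.comp (H2.comap f).subtype).codRestrict H2 fun x => x.2)
  have hπ3 : Function.Surjective π3 := fun a => by
    obtain ⟨⟨x, hx⟩, rfl⟩ := hπ2 a
    obtain ⟨y, rfl⟩ := hle2 hx
    exact ⟨⟨y, hx⟩, rfl⟩
  have hu : ∀ {L : Type _} [Field L] [Fintype L], (2 : L) ≠ 0 →
      ∀ x y : Matrix.SpecialLinearGroup (Fin 2) L, orderOf x = 2 → orderOf y = 2 → x = y := by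
    intro L _ _ h2 x y hx hy
    have hz' : ∀ w : Matrix.SpecialLinearGroup (Fin 2) L, orderOf w = 2 → w * w = 1 ∧ w ≠ 1 := fun w hw =>
      ⟨by have := pow_orderOf_eq_one w; rw [hw, pow_two] at this; exact this, fun h => by rw [h, orderOf_one] at hw; omega⟩
    exact Cfsg.Agent.Classical.SL2Four.unique_involution h2 (hz' x hx).1 (hz' x hx).2 (hz' y hy).1 (hz' y hy).2
  have h2F : (2 : ↥F) ≠ 0 := fun h =>
    h2K ((map_ofNat F.subtype 2).symm.trans ((congrArg F.subtype h).trans (map_zero _)))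
  rcases section_prod (H2.comap f) π3 hπ3 with ⟨H', π', hπ'⟩ | ⟨H', π', hπ'⟩
  · exact no_section_of_unique (hu h2F) E hE hE2 H' π' hπ'
  · exact no_section_of_unique (hu h2K) E hE hE2 H' π' hπ'

/-- Alternating sections of ³D₄. -/
theorem alt_section_le (p a : ℕ) [Fact p.Prime] [CharP K p] (ha : 1 ≤ a) (hK : Fintype.card K = (p ^ a) ^ 3) (r : ℕ)
    (H : Subgroup ↥(twistedD4 K (p ^ a))) (N : Subgroup ↥H) [N.Normal]
    (e : ↥H ⧸ N ≃* ↥(alternatingGroup (Fin r))) : r ≤ 6 + (if p = 5 then 1 else 0) := by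
  have hp : IsPrimePow (p ^ a) := (Fact.out : p.Prime).isPrimePow.pow (by omega)
  split_ifs with h5
  · subst h5
    obtain ⟨S⟩ := Cfsg.Agent.Lie.D4.nonempty_setup hp hK
    exact alt_le_seven S ((by decide : Odd 5).pow) r H N e
  · exact alt_le_six p h5 hp hK r H N e

end Cfsg.Agent.Small.AltSec.D4
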